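import Cfsg.Agent.Fusion.RankTwo
import Cfsg.Agent.Coprime.Basic

/-!
# Two sets of generators of an odd p-group whose fixed points factorise a coprime module
-/

namespace Cfsg.Agent.TwoGen

variable {P V : Type*} [Group P] [CommGroup V]

theorem prod_orbit_fixed {γ : MulAut V} {r : ℕ} (hγ : γ ^ r = 1) (v : V) :
    γ (∏ k ∈ Finset.range r, (γ ^ k) v) = ∏ k ∈ Finset.range r, (γ ^ k) v := by
  cases r with
  | zero => simp
  | succ n =>
    rw [map_prod]
    have h : ∀ k : ℕ, γ ((γ ^ k) v) = (γ ^ (k + 1)) v := fun k => by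
      rw [pow_succ']; rfl
    rw [Finset.prod_congr rfl (fun k _ => h k), Finset.prod_range_succ, hγ,
      Finset.prod_range_succ' (fun k => (γ ^ k) v) n, pow_zero]

theorem trivial_of_factorisation {p : ℕ} [hp : Fact p.Prime] (hp3 : 3 ≤ p) [Finite P] [Finite V]
    (hP : IsPGroup p P) (ρ : P →* MulAut V) (hρ : Function.Injective ρ)
    (hcop : (Nat.card V).Coprime p)
    (hirr : ∀ U : Subgroup V, (∀ g : P, ∀ u ∈ U, ρ g u ∈ U) → U = ⊥ ∨ U = ⊤)
    (C D : Set P) (hC : Subgroup.closure C = ⊤) (hD : Subgroup.closure D = ⊤)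
    (hfac : ∀ c ∈ C, ∀ d ∈ D, ∀ v, ∃ a b, ρ c a = a ∧ ρ d b = b ∧ a * b = v) :
    Subsingleton P := by
  classical
  by_contra hns
  rw [not_subsingleton_iff_nontrivial] at hns
  have hρ1 : ∀ g : P, (∀ v, ρ g v = v) → g = 1 := fun g h =>
    hρ ((MulEquiv.ext h).trans (map_one ρ).symm)
  -- the fixed points of a central element form an invariant subgroup
  have hfpf : ∀ z ∈ Subgroup.center P, z ≠ 1 → ∀ v, ρ z v = v → v = 1 := by
    intro z hz hz1 v hv
    rcases hirr ((ρ z).toMonoidHom.eqLocus (MonoidHom.id V)) (fun g u (hu : ρ z u = u) => by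
      show ρ z (ρ g u) = ρ g u
      rw [← MulAut.mul_apply, ← map_mul, ← Subgroup.mem_center_iff.1 hz g, map_mul, MulAut.mul_apply, hu]) with h | h
    · exact Subgroup.mem_bot.1 (h ▸ (hv : v ∈ (ρ z).toMonoidHom.eqLocus (MonoidHom.id V)))
    · exact absurd (hρ1 z fun w => (h ▸ Subgroup.mem_top w : w ∈ (ρ z).toMonoidHom.eqLocus (MonoidHom.id V))) hz1
  have hgen : ∀ (S : Set P), Subgroup.closure S = ⊤ → ∀ H : Subgroup P, (∀ s ∈ S, s ∈ H) → H = ⊤ := fun S hS H h =>
    top_le_iff.1 (hS ▸ (Subgroup.closure_le H).2 h)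
  have hVne : ∃ v : V, v ≠ 1 := by
    by_contra! h
    obtain ⟨g, hg⟩ := exists_ne (1 : P)
    exact hg (hρ1 g fun v => by rw [h v]; exact map_one _)
  by_cases hcyc : IsCyclic P
  · -- one generator in each set generates the group
    have key : ∀ S : Set P, Subgroup.closure S = ⊤ → ∃ s ∈ S, ∀ v, ρ s v = v → v = 1 := by
      intro S hS
      have hcomm : ∀ a b : P, a * b = b * a := fun a b => by
        haveI := IsCyclic.isMulCommutative (α := P)
        exact IsMulCommutative.is_comm.comm a b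
      obtain ⟨s, hs, hs1⟩ : ∃ s ∈ S, s ≠ 1 := by
        by_contra! h
        obtain ⟨g, hg⟩ := exists_ne (1 : P)
        have := hgen S hS ⊥ (fun s hs => Subgroup.mem_bot.2 (h s hs))
        exact hg (Subgroup.mem_bot.1 (this ▸ Subgroup.mem_top g))
      exact ⟨s, hs, hfpf s (Subgroup.mem_center_iff.2 fun g => hcomm g s) hs1⟩
    obtain ⟨c, hc, hcf⟩ := key C hC
    obtain ⟨d, hd, hdf⟩ := key D hD
    obtain ⟨v, hv⟩ := hVne
    obtain ⟨a, b, ha, hb, hab⟩ := hfac c hc d hd v
    exact hv (by rw [← hab, hcf a ha, hdf b hb, one_mul])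
  obtain ⟨E, hEn, hEel, hEc⟩ := Fusion.exists_normal_elementary_card_sq (by omega : p ≠ 2) hP hcyc
  haveI := hEn
  have hEne : E ≠ ⊥ := fun h => by
    rw [h, Subgroup.card_bot] at hEc
    exact (one_lt_pow₀ hp.out.one_lt two_ne_zero).ne hEc
  obtain ⟨z, hzE, hz1⟩ := (Subgroup.bot_or_exists_ne_one _).resolve_left (Fusion.pGroup_inf_center_ne_bot hP E hEne)
  have hzord : orderOf z = p := orderOf_eq_prime (hEel.2 z hzE.1) hz1
  obtain ⟨e, heE, hez⟩ : ∃ e ∈ E, e ∉ Subgroup.zpowers z := by
    by_contra! h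
    have := Subgroup.card_le_of_le (h : E ≤ Subgroup.zpowers z)
    rw [Nat.card_zpowers, hzord, hEc, pow_two] at this
    exact absurd this (not_le.2 (lt_mul_of_one_lt_left hp.out.pos hp.out.one_lt))
  have hez' : ∀ i : ℕ, (e * z ^ i) ^ p = 1 ∧ Commute e z := fun i =>
    ⟨hEel.2 _ (E.mul_mem heE (E.pow_mem hzE.1 i)), (Subgroup.mem_center_iff.1 hzE.2 e)⟩
  have hcomm : Commute e z := (hez' 0).2
  have hzp : z ^ p = 1 := hEel.2 z hzE.1
  -- averaging projections
  let av : ℕ → V → V := fun i v => ∏ k ∈ Finset.range p, (ρ (e * z ^ i) ^ k) v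
  have hav_fix : ∀ i v, ρ (e * z ^ i) (av i v) = av i v := fun i v =>
    prod_orbit_fixed (by rw [← map_pow, (hez' i).1, map_one]) v
  have hpart : ∀ k : ℕ, 0 < k → k < p → ∀ w, ∏ i ∈ Finset.range p, (ρ (z ^ k) ^ i) w = 1 := by
    intro k hk0 hkp w
    have hzk : z ^ k ≠ 1 := fun h => by
      have := Nat.le_of_dvd hk0 (hzord ▸ orderOf_dvd_of_pow_eq_one h); omega
    exact hfpf (z ^ k) (Subgroup.pow_mem _ hzE.2 k) hzk _
      (prod_orbit_fixed (by rw [← map_pow, ← pow_mul, mul_comm, pow_mul, hzp, one_pow, map_one]) w)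
  have hsum : ∀ v, ∏ i ∈ Finset.range p, av i v = v ^ p := by
    intro v
    show ∏ i ∈ Finset.range p, ∏ k ∈ Finset.range p, _ = _
    rw [Finset.prod_comm, Finset.prod_eq_single 0]
    · simp
    · intro k hk hk0
      have : ∀ i : ℕ, (ρ (e * z ^ i) ^ k) v = (ρ (z ^ k) ^ i) (ρ (e ^ k) v) := by
        intro i
        rw [← map_pow, ← map_pow, ← MulAut.mul_apply, ← map_mul, (hcomm.pow_right i).mul_pow, ← pow_mul, ← pow_mul,
          mul_comm k i, ((hcomm.pow_pow k (i * k))).eq]
      rw [Finset.prod_congr rfl fun i _ => this i]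
      exact hpart k (Nat.pos_of_ne_zero hk0) (Finset.mem_range.1 hk) _
    · intro h; exact absurd (Finset.mem_range.2 hp.out.pos) h
  -- how an element outside the centraliser of `e` moves the blocks
  have hmove : ∀ c : P, c * e ≠ e * c → ∃ j : ℕ, 0 < j ∧ j < p ∧ c * e * c⁻¹ = e * z ^ j := by
    intro c hce
    have hmem : c * e * c⁻¹ * e⁻¹ ∈ Subgroup.zpowers z := by
      have h1 : ⁅E, (⊤ : Subgroup P)⁆ < E :=
        Coprime.commutator_lt_of_isPGroup (p := p) (hP.to_subgroup _) (hP.to_subgroup E) Subgroup.le_normalizer_of_normal hEne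
      have h2 : ⁅⁅E, (⊤ : Subgroup P)⁆, (⊤ : Subgroup P)⁆ = ⊥ := by
        by_cases hb : ⁅E, (⊤ : Subgroup P)⁆ = ⊥
        · rw [hb]; exact Subgroup.commutator_bot_left _
        have h3 : ⁅⁅E, (⊤ : Subgroup P)⁆, (⊤ : Subgroup P)⁆ < ⁅E, (⊤ : Subgroup P)⁆ :=
          Coprime.commutator_lt_of_isPGroup (p := p) (hP.to_subgroup _) (hP.to_subgroup _) Subgroup.le_normalizer_of_normal hb
        have hlt : ∀ A B : Subgroup P, A < B → p * Nat.card A ≤ Nat.card B := by
          intro A B hAB
          obtain ⟨a, ha⟩ := (hP.to_subgroup A).exists_card_eq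
          obtain ⟨b, hb⟩ := (hP.to_subgroup B).exists_card_eq
          have hab : Nat.card A < Nat.card B :=
            lt_of_le_of_ne (Subgroup.card_le_of_le hAB.le) fun h => hAB.ne (Subgroup.eq_of_le_of_card_ge hAB.le h.ge)
          rw [ha, hb] at hab ⊢
          rw [← pow_succ']
          exact Nat.pow_le_pow_right hp.out.pos ((Nat.pow_lt_pow_iff_right hp.out.one_lt).1 hab)
        have h4 := hlt _ _ h1
        have h5 := hlt _ _ h3
        rw [hEc] at h4
        have h6 : Nat.card (⁅⁅E, (⊤ : Subgroup P)⁆, (⊤ : Subgroup P)⁆ : Subgroup P) ≤ 1 := by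
          have := Nat.mul_le_mul_left p h5
          have h7 : p * (p * Nat.card (⁅⁅E, (⊤ : Subgroup P)⁆, (⊤ : Subgroup P)⁆ : Subgroup P)) ≤ p * (p * 1) := by
            rw [mul_one, ← pow_two]; exact this.trans h4
          exact Nat.le_of_mul_le_mul_left (Nat.le_of_mul_le_mul_left h7 hp.out.pos) hp.out.pos
        exact (Subgroup.card_le_one_iff_eq_bot _).1 h6
      have hm : c * e * c⁻¹ * e⁻¹ ∈ ⁅E, (⊤ : Subgroup P)⁆ := by
        have := Subgroup.inv_mem _ (Subgroup.commutator_mem_commutator heE (Subgroup.mem_top c))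
        rwa [commutatorElement_inv] at this
      have hmE : c * e * c⁻¹ * e⁻¹ ∈ E := h1.le hm
      have hcen : c * e * c⁻¹ * e⁻¹ ∈ Subgroup.center P := by
        have := Subgroup.commutator_eq_bot_iff_le_centralizer.1 h2 hm
        rwa [Subgroup.coe_top, Subgroup.centralizer_univ] at this
      by_contra hnot
      set f := c * e * c⁻¹ * e⁻¹
      have hE : Subgroup.zpowers z ⊔ Subgroup.zpowers f = E := by
        refine Subgroup.eq_of_le_of_card_ge (sup_le (Subgroup.zpowers_le.2 hzE.1) (Subgroup.zpowers_le.2 hmE)) ?_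
        have hlt : Subgroup.zpowers z < Subgroup.zpowers z ⊔ Subgroup.zpowers f :=
          lt_of_le_of_ne le_sup_left fun h => hnot (h ▸ Subgroup.mem_sup_right (Subgroup.mem_zpowers f))
        obtain ⟨b, hb⟩ := (hP.to_subgroup (Subgroup.zpowers z ⊔ Subgroup.zpowers f)).exists_card_eq
        have hab : p < p ^ b := by
          rw [← hb]
          have h9 : Nat.card (Subgroup.zpowers z) < Nat.card (Subgroup.zpowers z ⊔ Subgroup.zpowers f : Subgroup P) :=
            lt_of_le_of_ne (Subgroup.card_le_of_le hlt.le) fun h => hlt.ne (Subgroup.eq_of_le_of_card_ge hlt.le h.ge)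
          rwa [Nat.card_zpowers, hzord] at h9
        rw [hEc, hb]
        refine Nat.pow_le_pow_right hp.out.pos ?_
        by_contra hb2
        have := Nat.pow_le_pow_right hp.out.pos (show b ≤ 1 by omega)
        rw [pow_one] at this
        omega
      have hEcen : E ≤ Subgroup.center P := hE ▸ sup_le (Subgroup.zpowers_le.2 hzE.2) (Subgroup.zpowers_le.2 hcen)
      exact hce (Subgroup.mem_center_iff.1 (hEcen heE) c)
    obtain ⟨j, hj, hje⟩ : ∃ j < p, c * e * c⁻¹ * e⁻¹ = z ^ j := by
      obtain ⟨j, hj, hje⟩ := ((isOfFinOrder_of_finite z).mem_zpowers_iff_mem_range_orderOf.1 hmem |> Finset.mem_image.1)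
      exact ⟨j, hzord ▸ Finset.mem_range.1 hj, hje.symm⟩
    have he : c * e * c⁻¹ = e * z ^ j := by
      rw [(hcomm.pow_right j).eq, ← hje, inv_mul_cancel_right]
    refine ⟨j, Nat.pos_of_ne_zero fun h0 => hce ?_, hj, he⟩
    rw [h0, pow_zero, mul_one] at he
    exact mul_inv_eq_iff_eq_mul.1 he
  -- the fixed points of such an element are small
  have hsmall : ∀ c : P, c * e ≠ e * c → Nat.card {v : V // ρ c v = v} ^ p ≤ Nat.card V := by
    intro c hce
    obtain ⟨j, hj0, hjp, hje⟩ := hmove c hce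
    have hav0 : ∀ m : ℕ, ∀ u, ρ c u = u → (ρ (c ^ m)) (av 0 u) = av (m * j) u := by
      intro m
      induction m with
      | zero => intro u _; simp
      | succ m ih =>
        intro u hu
        rw [pow_succ', map_mul, MulAut.mul_apply, ih u hu]
        show ρ c (∏ k ∈ Finset.range p, _) = _
        rw [map_prod]
        refine Finset.prod_congr rfl fun k _ => ?_
        rw [← map_pow, ← MulAut.mul_apply, ← map_mul]
        have e1 : c * (e * z ^ (m * j)) ^ k = (e * z ^ ((m + 1) * j)) ^ k * c := by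
          rw [← mul_inv_eq_iff_eq_mul, ← conj_pow]
          congr 1
          rw [← mul_assoc, mul_assoc _ (z ^ (m * j)) c⁻¹, ← Subgroup.mem_center_iff.1 (Subgroup.pow_mem _ hzE.2 (m * j)) c⁻¹,
            ← mul_assoc, hje, mul_assoc, ← pow_add]
          congr 2; ring
        rw [e1, map_mul, MulAut.mul_apply, hu, map_pow]
    let Φ : (Fin p → {v : V // ρ c v = v}) → V := fun u => ∏ i : Fin p, av (i : ℕ) (u i).1
    have hcp : (Nat.card V).Coprime p := hcop
    have hdisj : ∀ i l : Fin p, i ≠ l → ∀ v, av (i : ℕ) (av (l : ℕ) v) = 1 := by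
      intro i l hil v
      have hl : ρ (e * z ^ (l : ℕ)) (av (i : ℕ) (av (l : ℕ) v)) = av (i : ℕ) (av (l : ℕ) v) := by
        show ρ _ (∏ k ∈ Finset.range p, _) = _
        rw [map_prod]
        refine Finset.prod_congr rfl fun k _ => ?_
        rw [← map_pow, ← MulAut.mul_apply, ← map_mul,
          show e * z ^ (l : ℕ) * (e * z ^ (i : ℕ)) ^ k = (e * z ^ (i : ℕ)) ^ k * (e * z ^ (l : ℕ)) from
            ((((Commute.refl e).mul_right (hcomm.pow_right _)).mul_left
              (((hcomm.pow_right _).symm).mul_right ((Commute.refl z).pow_pow _ _))).pow_right k).eq,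
          map_mul, MulAut.mul_apply, hav_fix]
      have hi := hav_fix (i : ℕ) (av (l : ℕ) v)
      set w := av (i : ℕ) (av (l : ℕ) v)
      have key : ∀ a b : Fin p, (a : ℕ) < b → ρ (e * z ^ (a : ℕ)) w = w → ρ (e * z ^ (b : ℕ)) w = w → w = 1 := by
        intro a b hab ha hb
        have hzz : z ^ ((b : ℕ) - a) ≠ 1 := fun h => by
          have := Nat.le_of_dvd (by omega) (hzord ▸ orderOf_dvd_of_pow_eq_one h)
          have := b.2
          omega
        refine hfpf _ (Subgroup.pow_mem _ hzE.2 _) hzz w ?_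
        have e2 : e * z ^ (b : ℕ) = (e * z ^ (a : ℕ)) * z ^ ((b : ℕ) - a) := by
          rw [mul_assoc, ← pow_add, Nat.add_sub_cancel' hab.le]
        rw [e2, map_mul, MulAut.mul_apply] at hb
        exact (ρ (e * z ^ (a : ℕ))).injective (hb.trans ha.symm)
      rcases lt_or_gt_of_ne hil with h | h
      · exact key i l h hi hl
      · exact key l i h hl hi
    have hcancel : Function.Injective fun v : V => v ^ p := (powCoprime hcp).injective
    have havmul : ∀ i a b, av i (a * b) = av i a * av i b := fun i a b => by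
      simp only [av, map_mul, Finset.prod_mul_distrib]
    have havself : ∀ i v, av i (av i v) = av i v ^ p := by
      intro i v
      have hk : ∀ k : ℕ, (ρ (e * z ^ i) ^ k) (av i v) = av i v := by
        intro k
        induction k with
        | zero => rfl
        | succ k ih => rw [pow_succ', MulAut.mul_apply, ih]; exact hav_fix i v
      show ∏ k ∈ Finset.range p, _ = _
      rw [Finset.prod_congr rfl (fun k _ => hk k), Finset.prod_const, Finset.card_range]
    have hinjav : ∀ i : Fin p, ∀ u v, ρ c u = u → ρ c v = v → av (i : ℕ) u = av (i : ℕ) v → u = v := by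
      intro i u v hu hv h
      set w := u * v⁻¹
      have hw : ρ c w = w := by rw [map_mul, map_inv, hu, hv]
      have hwi : av (i : ℕ) w = 1 := by
        have h1 := havmul (i : ℕ) w v
        rw [inv_mul_cancel_right, h] at h1
        exact mul_eq_right.1 h1.symm
      obtain ⟨r, hr⟩ : ∃ r : ℕ, (r * j) % p = i := by
        have hcopj : Nat.Coprime j p := (Nat.coprime_of_lt_prime hj0.ne' hjp hp.out).symm
        obtain ⟨t, -, ht⟩ := Nat.exists_mul_mod_eq_one_of_coprime hcopj (by omega : 1 < p)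
        refine ⟨i * t, ?_⟩
        rw [mul_assoc, mul_comm t j, Nat.mul_mod, ht, mul_one, Nat.mod_mod, Nat.mod_eq_of_lt i.2]
      have hmod : ∀ m : ℕ, av m w = av (m % p) w := fun m => by
        simp only [av]
        rw [show z ^ m = z ^ (m % p) by rw [← hzord]; exact (pow_mod_orderOf z m).symm]
      have h0 : av 0 w = 1 := by
        apply (ρ (c ^ r)).injective
        rw [hav0 r w hw, hmod, hr, hwi, map_one]
      have hall : ∀ m, m < p → av m w = 1 := by
        intro m hm
        obtain ⟨t, -, ht⟩ := Nat.exists_mul_mod_eq_one_of_coprime (Nat.coprime_of_lt_prime hj0.ne' hjp hp.out).symm (by omega : 1 < p)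
        have := hav0 (m * t) w hw
        rw [h0, map_one, hmod, mul_assoc, mul_comm t j, Nat.mul_mod, ht, mul_one, Nat.mod_mod, Nat.mod_eq_of_lt hm] at this
        exact this.symm
      have h1 : w ^ p = 1 := by
        rw [← hsum]; exact Finset.prod_eq_one fun m hm => hall m (Finset.mem_range.1 hm)
      have : w = 1 := hcancel (by show w ^ p = 1 ^ p; rw [h1, one_pow])
      exact mul_inv_eq_one.1 this
    have hinj : Function.Injective Φ := by
      intro u v huv
      funext l
      refine Subtype.ext (hinjav l _ _ (u l).2 (v l).2 ?_)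
      have key : ∀ u : Fin p → {v : V // ρ c v = v}, av (l : ℕ) (Φ u) = av (l : ℕ) (u l).1 ^ p := by
        intro u
        have hom : av (l : ℕ) (Φ u) = ∏ i : Fin p, av (l : ℕ) (av (i : ℕ) (u i).1) :=
          map_prod (MonoidHom.mk' (av (l : ℕ)) (havmul _)) _ _
        rw [hom, Finset.prod_eq_single l (fun i _ hil => hdisj l i (Ne.symm hil) _) (fun h => absurd (Finset.mem_univ l) h), havself]
      exact hcancel ((key u).symm.trans ((congrArg _ huv).trans (key v)))
    calc Nat.card {v : V // ρ c v = v} ^ p = Nat.card (Fin p → {v : V // ρ c v = v}) := by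
          rw [Nat.card_fun, Nat.card_fin]
      _ ≤ _ := Nat.card_le_card_of_injective Φ hinj
  have hout : ∀ S : Set P, Subgroup.closure S = ⊤ → ∃ s ∈ S, s * e ≠ e * s := by
    intro S hS
    by_contra! h
    have htop := hgen S hS (Subgroup.centralizer {e}) fun s hs => Subgroup.mem_centralizer_singleton_iff.2 (h s hs)
    have hec : e ∈ Subgroup.center P := Subgroup.mem_center_iff.2 fun g =>
      (Subgroup.mem_centralizer_singleton_iff.1 (htop ▸ Subgroup.mem_top g : g ∈ Subgroup.centralizer {e}))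
    obtain ⟨v, hv⟩ := hVne
    have hall : ∀ m : ℕ, av m v = 1 := fun m => by
      refine hfpf (e * z ^ m) (mul_mem hec (pow_mem hzE.2 m)) (fun h1 => hez ?_) _ (hav_fix m v)
      rw [mul_eq_one_iff_eq_inv] at h1
      exact h1 ▸ Subgroup.inv_mem _ (Subgroup.pow_mem _ (Subgroup.mem_zpowers z) m)
    have h1 : v ^ p = 1 := by rw [← hsum]; exact Finset.prod_eq_one fun m _ => hall m
    exact hv ((powCoprime hcop).injective (show v ^ p = (1 : V) ^ p by rw [h1, one_pow]))
  obtain ⟨c, hc, hce⟩ := hout C hC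
  obtain ⟨d, hd, hde⟩ := hout D hD
  set a := Nat.card {v : V // ρ c v = v}
  set b := Nat.card {v : V // ρ d v = v}
  have hle : Nat.card V ≤ a * b := by
    rw [← Nat.card_prod]
    refine Nat.card_le_card_of_surjective (fun x : {v : V // ρ c v = v} × {v : V // ρ d v = v} => x.1.1 * x.2.1) ?_
    intro v
    obtain ⟨x, y, hx, hy, hxy⟩ := hfac c hc d hd v
    exact ⟨(⟨x, hx⟩, ⟨y, hy⟩), hxy⟩
  have h2 : Nat.card V ^ p ≤ Nat.card V ^ 2 := by
    refine (Nat.pow_le_pow_left hle p).trans ?_
    rw [mul_pow, pow_two]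
    exact Nat.mul_le_mul (hsmall c hce) (hsmall d hde)
  have hV1 : 1 < Nat.card V := by
    obtain ⟨v, hv⟩ := hVne
    haveI : Nontrivial V := ⟨⟨v, 1, hv⟩⟩
    exact Finite.one_lt_card
  have := (Nat.pow_le_pow_iff_right hV1).1 h2
  omega

end Cfsg.Agent.TwoGen
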